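import Groth.Agent.Lib.AffHom12.Basic
import Mathlib.AlgebraicGeometry.AffineScheme

/-!
# Maps into modules supported on an affine open
-/

universe u

open CategoryTheory Limits AlgebraicGeometry Opposite TopologicalSpace

set_option backward.isDefEq.respectTransparency false
set_option backward.isDefEq.respectTransparency.types false
set_option linter.style.haveILetI false

namespace Groth.Agent.AffHom12

variable {P : Scheme.{u}} {W : P.Opens} (hW : IsAffineOpen W) {G : P.Modules} (hG : Coh.IsQCoh G)
  {K : P.Modules} [IsIso ((Scheme.Modules.restrictAdjunction W.ι).unit.app K)]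

/-- Sections over `W`, read on the open subscheme `W`. -/
noncomputable def down (M : P.Modules) : Γ(M, W) →+ Γ(M.restrict W.ι, ⊤) :=
  (M.presheaf.map (eqToHom W.ι_image_top).op).hom

/-- Inverse of `down`. -/
noncomputable def up (M : P.Modules) : Γ(M.restrict W.ι, ⊤) →+ Γ(M, W) :=
  (M.presheaf.map (eqToHom W.ι_image_top.symm).op).hom

theorem down_up (M : P.Modules) (x : Γ(M.restrict W.ι, ⊤)) : down M (up M x) = x := by
  show (M.presheaf.map (eqToHom W.ι_image_top.symm).op ≫ M.presheaf.map (eqToHom W.ι_image_top).op)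
    (x : Γ(M, W.ι ''ᵁ ⊤)) = x
  rw [← M.presheaf.map_comp,
    Subsingleton.elim ((eqToHom W.ι_image_top.symm).op ≫ (eqToHom W.ι_image_top).op) (𝟙 _), M.presheaf.map_id]
  rfl

theorem up_down (M : P.Modules) (x : Γ(M, W)) : up M (down M x) = x := by
  show (M.presheaf.map (eqToHom W.ι_image_top).op ≫ M.presheaf.map (eqToHom W.ι_image_top.symm).op) x = x
  rw [← M.presheaf.map_comp,
    Subsingleton.elim ((eqToHom W.ι_image_top).op ≫ (eqToHom W.ι_image_top.symm).op) (𝟙 _), M.presheaf.map_id]
  rfl

theorem app_down {M N : P.Modules} (θ : M ⟶ N) (x : Γ(M, W)) :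
    ((Scheme.Modules.restrictFunctor W.ι).map θ).app ⊤ (down M x) = down N (θ.app W x) :=
  M1.map_app_eq θ W.ι_image_top.le x

theorem up_smul (M : P.Modules) (r : Γ(W.toScheme, ⊤)) (x : Γ(M.restrict W.ι, ⊤)) :
    up M (r • x) = P.presheaf.map (eqToHom W.ι_image_top.symm).op ((W.ι.appIso ⊤).inv r) • up M x :=
  (congrArg _ (Scheme.Modules.smul_restrictAppIso_hom_apply W.ι M ⊤ r x)).trans
    (Scheme.Modules.map_smul M _ _ _)

include hW hG in
theorem exists_hom_on (l : Γ(G, W) →+ Γ(K, W))
    (hl : ∀ (r : Γ(P, W)) (g : Γ(G, W)), l (r • g) = r • l g) :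
    ∃ φ : G ⟶ K, ∀ g, φ.app W g = l g := by
  haveI : IsAffine W.toScheme := hW
  obtain ⟨ψ, hψ⟩ := exists_hom_top (P := W.toScheme) (M1.isQCoh_restrict hG W.ι) (H := K.restrict W.ι)
    ((down K).comp (l.comp (up G))) fun r x => by
      show down K (l (up G (r • x))) = r • down K (l (up G x))
      have hinj : Function.Injective (up (W := W) K) := fun a b h => by
        rw [← down_up K a, ← down_up K b, h]
      refine hinj ?_
      rw [up_down, up_smul K, up_down, up_smul G, hl]
  let η := (Scheme.Modules.restrictAdjunction W.ι).unit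
  let φ : G ⟶ K := η.app G ≫ (Scheme.Modules.pushforward W.ι).map ψ ≫ inv (η.app K)
  refine ⟨φ, fun g => ?_⟩
  have e : φ ≫ η.app K = η.app G ≫ (Scheme.Modules.pushforward W.ι).map ψ := by simp [φ]
  have e2 : (Scheme.Modules.restrictFunctor W.ι).map φ = ψ := by
    have h := (Scheme.Modules.restrictAdjunction W.ι).unit.naturality φ
    have h' : η.app G ≫ (Scheme.Modules.pushforward W.ι).map ((Scheme.Modules.restrictFunctor W.ι).map φ) =
        η.app G ≫ (Scheme.Modules.pushforward W.ι).map ψ := h.symm.trans e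
    refine ((Scheme.Modules.restrictAdjunction W.ι).homEquiv G (K.restrict W.ι)).injective ?_
    rw [Adjunction.homEquiv_unit, Adjunction.homEquiv_unit]
    exact h'
  have h1 := app_down φ g
  rw [e2, hψ] at h1
  have h2 := congrArg (up K) h1
  rw [up_down] at h2
  refine h2.symm.trans ?_
  show up K (down K (l (up G (down G g)))) = l g
  rw [up_down, up_down]

include hW hG in
theorem hom_ext_on (φ φ' : G ⟶ K) (h : ∀ g, φ.app W g = φ'.app W g) : φ = φ' := by
  haveI : IsAffine W.toScheme := hW
  have key : (Scheme.Modules.restrictFunctor W.ι).map φ = (Scheme.Modules.restrictFunctor W.ι).map φ' :=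
    hom_ext_top (M1.isQCoh_restrict hG W.ι) _ _ fun x => by
      obtain ⟨g, rfl⟩ : ∃ g, down G g = x := ⟨up G x, down_up G x⟩
      rw [app_down, app_down, h]
  rw [← cancel_mono ((Scheme.Modules.restrictAdjunction W.ι).unit.app K)]
  have n : ∀ θ : G ⟶ K, θ ≫ (Scheme.Modules.restrictAdjunction W.ι).unit.app K =
      (Scheme.Modules.restrictAdjunction W.ι).unit.app G ≫
        (Scheme.Modules.pushforward W.ι).map ((Scheme.Modules.restrictFunctor W.ι).map θ) :=
    fun θ => (Scheme.Modules.restrictAdjunction W.ι).unit.naturality θ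
  rw [n, n, key]

/-- The unit is invertible when restriction to the smaller open is bijective on sections. -/
theorem isIso_unit_of_bijective (M : P.Modules)
    (h : ∀ (U V : P.Opens) (hle : V ≤ U), W ⊓ U = W ⊓ V → Function.Bijective (M1.mres M hle)) :
    IsIso ((Scheme.Modules.restrictAdjunction W.ι).unit.app M) := by
  refine Scheme.Modules.Hom.isIso_iff_isIso_app.2 fun U => (ConcreteCategory.isIso_iff_bijective _).2 ?_
  rw [Scheme.Modules.restrictAdjunction_unit_app_app]
  refine h U _ (W.ι.image_preimage_le U) ?_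
  rw [Scheme.Hom.image_preimage_eq_opensRange_inf, Scheme.Opens.opensRange_ι, ← inf_assoc, inf_idem]

end Groth.Agent.AffHom12
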