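import Groth.Agent.Lib.ModM1.Local
import Mathlib.AlgebraicGeometry.Modules.Tilde

/-!
# Maps out of quasi-coherent modules on affine schemes
-/

universe u

open CategoryTheory Limits AlgebraicGeometry Opposite TopologicalSpace

set_option backward.isDefEq.respectTransparency false
set_option backward.isDefEq.respectTransparency.types false
set_option linter.style.haveILetI false

namespace Groth.Agent.AffHom12

variable {P : Scheme.{u}}

theorem image_top_of_isIso {Q : Scheme.{u}} (e : Q ⟶ P) [IsIso e] : e ''ᵁ ⊤ = ⊤ := by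
  rw [Scheme.Hom.image_top_eq_opensRange, Scheme.Hom.opensRange_of_isIso]

theorem isIso_unit {Q : Scheme.{u}} (e : Q ⟶ P) [IsIso e] (M : P.Modules) :
    IsIso ((Scheme.Modules.restrictAdjunction e).unit.app M) := by
  refine Scheme.Modules.Hom.isIso_iff_isIso_app.2 fun U => ?_
  rw [Scheme.Modules.restrictAdjunction_unit_app_app]
  have : e ''ᵁ e ⁻¹ᵁ U = U := by
    rw [Scheme.Hom.image_preimage_eq_opensRange_inf, Scheme.Hom.opensRange_of_isIso, top_inf_eq]
  have h : homOfLE (e.image_preimage_le U) = eqToHom this := Subsingleton.elim _ _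
  rw [h]
  infer_instance

variable [IsAffine P] {G : P.Modules} (hG : Coh.IsQCoh G) {H : P.Modules}

include hG in
theorem exists_hom_top (l : Γ(G, ⊤) →+ Γ(H, ⊤))
    (hl : ∀ (r : Γ(P, ⊤)) (g : Γ(G, ⊤)), l (r • g) = r • l g) :
    ∃ φ : G ⟶ H, ∀ g, φ.app ⊤ g = l g := by
  let R := Γ(P, ⊤)
  let e : Spec R ⟶ P := P.isoSpec.inv
  let G' := G.restrict e
  let H' := H.restrict e
  haveI : G'.IsQuasicoherent := M1.isQCoh_restrict hG e
  haveI : IsIso G'.fromTildeΓ := Scheme.Modules.isIso_fromTildeΓ_of_isQuasicoherent (R := R) G'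
  have ht : e ''ᵁ ⊤ = ⊤ := image_top_of_isIso e
  let up : ∀ M : P.Modules, Γ(M, e ''ᵁ ⊤) → Γ(M, ⊤) := fun M => M.presheaf.map (eqToHom ht.symm).op
  let down : ∀ M : P.Modules, Γ(M, ⊤) → Γ(M, e ''ᵁ ⊤) := fun M => M.presheaf.map (eqToHom ht).op
  have hud : ∀ (M : P.Modules) x, down M (up M x) = x := fun M x => by
    show (M.presheaf.map _ ≫ M.presheaf.map _) x = x
    rw [← M.presheaf.map_comp, Subsingleton.elim ((eqToHom ht.symm).op ≫ (eqToHom ht).op) (𝟙 _), M.presheaf.map_id]
    rfl
  have hdu : ∀ (M : P.Modules) x, up M (down M x) = x := fun M x => by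
    show (M.presheaf.map _ ≫ M.presheaf.map _) x = x
    rw [← M.presheaf.map_comp, Subsingleton.elim ((eqToHom ht).op ≫ (eqToHom ht.symm).op) (𝟙 _), M.presheaf.map_id]
    rfl
  let χ : R → Γ(P, e ''ᵁ ⊤) := fun r => (e.appIso ⊤).inv ((Scheme.ΓSpecIso R).inv r)
  let r' : R → Γ(P, ⊤) := fun r => P.presheaf.map (eqToHom ht.symm).op (χ r)
  have hsmul : ∀ (M : P.Modules) (r : R) (x : Γ(M, e ''ᵁ ⊤)), up M (χ r • x) = r' r • up M x :=
    fun M r x => Scheme.Modules.map_smul M _ _ _
  have hsmul' : ∀ (M : P.Modules) (r : R) (x : Γ(M, ⊤)), down M (r' r • x) = χ r • down M x := fun M r x => by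
    rw [← hdu M x, ← hsmul, hud, hud]
  have hrest : ∀ (M : P.Modules) (r : R) (x : Γ(M.restrict e, ⊤)),
      (M.restrictAppIso e ⊤).hom (r • x) = χ r • (M.restrictAppIso e ⊤).hom x := fun M r x => by
    simp only [Scheme.Modules.smul_Spec_def, Scheme.Modules.smul_restrictAppIso_hom_apply]
    rfl
  let L : Γ(G', ⊤) →ₗ[R] Γ(H', ⊤) :=
    { toFun := fun x => (H.restrictAppIso e ⊤).inv (down H (l (up G ((G.restrictAppIso e ⊤).hom x))))
      map_add' := fun x y => by simp only [up, down, map_add]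
      map_smul' := fun r x => by
        rw [hrest, hsmul, hl, hsmul']
        exact (hrest H r ((H.restrictAppIso e ⊤).inv (down H (l (up G ((G.restrictAppIso e ⊤).hom x)))))).symm }
  let Lm : moduleSpecΓFunctor.obj G' ⟶ moduleSpecΓFunctor.obj H' :=
    (ModuleCat.ofHom L : ModuleCat.of R Γ(G', ⊤) ⟶ ModuleCat.of R Γ(H', ⊤))
  let ψ : G' ⟶ H' := inv G'.fromTildeΓ ≫
    ((tilde.adjunction (R := R)).homEquiv (moduleSpecΓFunctor.obj G') H').symm Lm
  have hψ : moduleSpecΓFunctor.map ψ = Lm := by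
    have h1 : tilde.adjunction.unit.app (moduleSpecΓFunctor.obj G') ≫
        moduleSpecΓFunctor.map G'.fromTildeΓ = 𝟙 _ := tilde.adjunction.right_triangle_components G'
    have h2 : moduleSpecΓFunctor.map (inv G'.fromTildeΓ) =
        tilde.adjunction.unit.app (moduleSpecΓFunctor.obj G') := by
      rw [Functor.map_inv]
      symm
      rw [← comp_inv_eq_id] at h1
      exact (IsIso.eq_inv_of_inv_hom_id (f := moduleSpecΓFunctor.map G'.fromTildeΓ) (by simpa using h1))
    rw [Functor.map_comp, h2, ← Adjunction.homEquiv_unit]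
    exact ((tilde.adjunction (R := R)).homEquiv (moduleSpecΓFunctor.obj G') H').apply_symm_apply Lm
  haveI := isIso_unit e H
  let φ : G ⟶ H := (Scheme.Modules.restrictAdjunction e).unit.app G ≫
    (Scheme.Modules.pushforward e).map ψ ≫ inv ((Scheme.Modules.restrictAdjunction e).unit.app H)
  refine ⟨φ, fun g => ?_⟩
  have e1 : φ ≫ (Scheme.Modules.restrictAdjunction e).unit.app H =
      (Scheme.Modules.restrictAdjunction e).unit.app G ≫ (Scheme.Modules.pushforward e).map ψ := by
    simp [φ]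
  have e2 := congr($(e1).app ⊤ g)
  have e3 : ψ.app ⊤ ((G.restrictAppIso e ⊤).inv (down G g)) = (H.restrictAppIso e ⊤).inv (down H (l g)) := by
    have := congr($hψ ((G.restrictAppIso e ⊤).inv (down G g)))
    refine this.trans ?_
    show (H.restrictAppIso e ⊤).inv (down H (l (up G _))) = _
    congr 3
    exact hdu G g
  have e4 : down H (φ.app ⊤ g) = down H (l g) := e2.trans e3
  exact (hdu H _).symm.trans ((congrArg (up H) e4).trans (hdu H _))

include hG in
theorem hom_ext_top (φ φ' : G ⟶ H) (h : ∀ g, φ.app ⊤ g = φ'.app ⊤ g) : φ = φ' := by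
  let R := Γ(P, ⊤)
  let e : Spec R ⟶ P := P.isoSpec.inv
  haveI : (G.restrict e).IsQuasicoherent := M1.isQCoh_restrict hG e
  haveI : IsIso (G.restrict e).fromTildeΓ :=
    Scheme.Modules.isIso_fromTildeΓ_of_isQuasicoherent (R := R) (G.restrict e)
  have ht : e ''ᵁ ⊤ = ⊤ := image_top_of_isIso e
  let F := Scheme.Modules.restrictFunctor e
  have key : F.map φ = F.map φ' := by
    have hΓ : moduleSpecΓFunctor.map (F.map φ) = moduleSpecΓFunctor.map (F.map φ') := by
      refine ModuleCat.hom_ext (LinearMap.ext fun (x : Γ(G, e ''ᵁ ⊤)) => ?_)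
      show φ.app (e ''ᵁ ⊤) x = φ'.app (e ''ᵁ ⊤) x
      have : ∀ (V : P.Opens) (hV : V = ⊤) (x : Γ(G, V)), φ.app V x = φ'.app V x := fun V hV x => by
        subst hV; exact h x
      exact this _ ht x
    rw [← cancel_epi (G.restrict e).fromTildeΓ]
    have n : ∀ θ : G.restrict e ⟶ H.restrict e, (G.restrict e).fromTildeΓ ≫ θ =
        (tilde.functor R).map (moduleSpecΓFunctor.map θ) ≫ (H.restrict e).fromTildeΓ := fun θ =>
      ((tilde.adjunction (R := R)).counit.naturality θ).symm
    rw [n, n, hΓ]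
  haveI := isIso_unit e H
  rw [← cancel_mono ((Scheme.Modules.restrictAdjunction e).unit.app H)]
  have n : ∀ θ : G ⟶ H, θ ≫ (Scheme.Modules.restrictAdjunction e).unit.app H =
      (Scheme.Modules.restrictAdjunction e).unit.app G ≫ (Scheme.Modules.pushforward e).map (F.map θ) :=
    fun θ => (Scheme.Modules.restrictAdjunction e).unit.naturality θ
  rw [n, n, key]

end Groth.Agent.AffHom12
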