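import Groth.Agent.Lib.AffHom12.Basic
import Groth.Agent.Lib.Omega12.Affine
import Groth.Agent.Lib.ModM1.Pull
import Groth.Prelude.Def_OmAff

/-!
# Sections of the sheaf of differentials of a morphism of affine schemes
-/

universe u

open CategoryTheory Limits AlgebraicGeometry Opposite TopologicalSpace
open scoped TensorProduct

set_option backward.isDefEq.respectTransparency false
set_option backward.isDefEq.respectTransparency.types false
set_option linter.style.haveILetI false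

namespace Groth.Agent.AffHom12

variable (A B : Type u) [CommRing A] [CommRing B] [Algebra A B]

/-- The structure map. -/
noncomputable abbrev fS : Spec (CommRingCat.of B) ⟶ Spec (CommRingCat.of A) :=
  Spec.map (CommRingCat.ofHom (algebraMap A B))

/-- The self product. -/
noncomputable abbrev PP : Scheme.{u} := pullback (fS A B) (fS A B)

/-- The diagonal. -/
noncomputable abbrev Δ : Spec (CommRingCat.of B) ⟶ PP A B := pullback.diagonal (fS A B)

/-- Functions on the self product. -/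
noncomputable def θ : Γ(PP A B, ⊤) ⟶ CommRingCat.of (B ⊗[A] B) :=
  (pullbackSpecIso A B B).inv.appTop ≫ (Scheme.ΓSpecIso (CommRingCat.of (B ⊗[A] B))).hom

instance : IsIso (θ A B) := by unfold θ; infer_instance

theorem θ_injective : Function.Injective (θ A B) :=
  ((ConcreteCategory.isIso_iff_bijective _).1 inferInstance).1

theorem θ_surjective : Function.Surjective (θ A B) :=
  ((ConcreteCategory.isIso_iff_bijective _).1 inferInstance).2

theorem θ_fst (b : B) : θ A B ((pullback.fst (fS A B) (fS A B)).appTop (OmAff.toΓ B b)) = b ⊗ₜ 1 := by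
  have e : (Scheme.ΓSpecIso (CommRingCat.of B)).inv ≫ (pullback.fst (fS A B) (fS A B)).appTop ≫ θ A B =
      CommRingCat.ofHom Algebra.TensorProduct.includeLeftRingHom := by
    rw [θ, ← Scheme.Hom.comp_appTop_assoc, pullbackSpecIso_inv_fst, Scheme.ΓSpecIso_naturality,
      Iso.inv_hom_id_assoc]
  exact congr($e b)

theorem θ_snd (b : B) : θ A B ((pullback.snd (fS A B) (fS A B)).appTop (OmAff.toΓ B b)) = 1 ⊗ₜ b := by
  have e : (Scheme.ΓSpecIso (CommRingCat.of B)).inv ≫ (pullback.snd (fS A B) (fS A B)).appTop ≫ θ A B =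
      CommRingCat.ofHom (Algebra.TensorProduct.includeRight (R := A) (A := B) (B := B)).toRingHom := by
    rw [θ, ← Scheme.Hom.comp_appTop_assoc, pullbackSpecIso_inv_snd, Scheme.ΓSpecIso_naturality,
      Iso.inv_hom_id_assoc]
    rfl
  exact congr($e b)

theorem diag_appTop (r : Γ(PP A B, ⊤)) :
    (Δ A B).appTop r = OmAff.toΓ B (Algebra.TensorProduct.lmul' A (θ A B r)) := by
  have e : (Δ A B).appTop = θ A B ≫
      CommRingCat.ofHom (Algebra.TensorProduct.lmul' A : B ⊗[A] B →ₐ[A] B).toRingHom ≫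
      (Scheme.ΓSpecIso (CommRingCat.of B)).inv := by
    rw [θ, Category.assoc, Scheme.ΓSpecIso_inv_naturality, Iso.hom_inv_id_assoc, ← Scheme.Hom.comp_appTop]
    exact congrArg Scheme.Hom.appTop (diagonal_SpecMap A B)
  exact congr($e r)

/-- The ideal module of the diagonal. -/
noncomputable abbrev GI : (PP A B).Modules := ClSub.idealMod (Δ A B).ker

theorem θ_incl_mem (k : Γ(GI A B, ⊤)) :
    θ A B (M2.idealIncl (Δ A B).ker k) ∈ KaehlerDifferential.ideal A B := by
  have h : M2.idealIncl (Δ A B).ker k ∈ (Δ A B).ker.ideal ⟨⊤, isAffineOpen_top _⟩ :=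
    (M2.range_idealIncl (Δ A B).ker ⟨⊤, isAffineOpen_top _⟩).le ⟨k, rfl⟩
  rw [Scheme.Hom.ker_apply, RingHom.mem_ker] at h
  refine RingHom.mem_ker.2 ?_
  have h' : (Δ A B).appTop (M2.idealIncl (Δ A B).ker k) = 0 := h
  rw [diag_appTop] at h'
  exact (Scheme.ΓSpecIso (CommRingCat.of B)).symm.commRingCatIsoToRingEquiv.injective
    (h'.trans (map_zero _).symm)

/-- The differential attached to a section of the ideal. -/
noncomputable def toDiff (k : Γ(GI A B, ⊤)) : Ω[B⁄A] :=
  KaehlerDifferential.fromIdeal A B ⟨_, θ_incl_mem A B k⟩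

theorem toDiff_add (k k' : Γ(GI A B, ⊤)) : toDiff A B (k + k') = toDiff A B k + toDiff A B k' := by
  rw [toDiff, toDiff, toDiff, ← map_add]
  congr 1
  ext
  show θ A B (M2.idealIncl (Δ A B).ker (k + k')) = θ A B _ + θ A B _
  rw [M2.idealIncl_add, map_add]

theorem toDiff_smul (r : Γ(PP A B, ⊤)) (k : Γ(GI A B, ⊤)) :
    toDiff A B (r • k) = (Algebra.TensorProduct.lmul' A (S := B) (θ A B r)) • toDiff A B k := by
  rw [Omega12.lmul_smul_kaehler, toDiff, toDiff, ← map_smul]
  congr 1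
  ext
  show θ A B (M2.idealIncl (Δ A B).ker (r • k)) = θ A B r * θ A B _
  rw [M2.idealIncl_smul, map_mul]

/-- The lift of `1 ⊗ b - b ⊗ 1`, on the whole self product. -/
noncomputable def k0 (s : Γ(Spec (CommRingCat.of B), ⊤)) : Γ(GI A B, ⊤) :=
  (GI A B).presheaf.map (eqToHom (show ⊤ = OmegaSh.diagNbhd (fS A B) ⊤ from
    (inf_idem _).symm)).op (OmegaSh.idealLift (fS A B) ⊤ s)

theorem θ_incl_k0 (b : B) :
    θ A B (M2.idealIncl (Δ A B).ker (k0 A B (OmAff.toΓ B b))) = 1 ⊗ₜ b - b ⊗ₜ 1 := by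
  have h : M2.idealIncl (Δ A B).ker (k0 A B (OmAff.toΓ B b)) =
      (pullback.snd (fS A B) (fS A B)).appTop (OmAff.toΓ B b) -
        (pullback.fst (fS A B) (fS A B)).appTop (OmAff.toΓ B b) := by
    unfold k0
    rw [show (eqToHom (show ⊤ = OmegaSh.diagNbhd (fS A B) ⊤ from (inf_idem _).symm)) =
      homOfLE (inf_idem (⊤ : (PP A B).Opens)).ge from Subsingleton.elim _ _]
    refine (OmegaSh.idealModι_app_map _ _ _ _).trans ?_
    rw [OmegaSh.ι_idealLift]
    have e : ∀ (p : PP A B ⟶ Spec (CommRingCat.of B)) (W : (PP A B).Opens) (hW : ⊤ ≤ W)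
        (h : W ≤ p ⁻¹ᵁ ⊤) (x : Γ(Spec (CommRingCat.of B), ⊤)),
        (PP A B).presheaf.map (homOfLE hW).op (p.appLE ⊤ W h x) = p.appTop x := fun p W hW h x => by
      show (p.appLE ⊤ W h ≫ (PP A B).presheaf.map (homOfLE hW).op) x = _
      rw [Scheme.Hom.appLE_map, Scheme.Hom.appTop, Scheme.Hom.app_eq_appLE]
      rfl
    show (PP A B).presheaf.map _ (OmegaSh.diagDiff (fS A B) ⊤ (OmAff.toΓ B b)) = _
    rw [OmegaSh.diagDiff, map_sub]
    exact congrArg₂ (· - ·) (e _ _ _ _ _) (e _ _ _ _ _)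
  rw [h, map_sub, θ_fst, θ_snd]

theorem toDiff_k0 (b : B) : toDiff A B (k0 A B (OmAff.toΓ B b)) = KaehlerDifferential.D A B b := by
  rw [toDiff, KaehlerDifferential.D_apply]
  exact congrArg (KaehlerDifferential.fromIdeal A B) (Subtype.ext (θ_incl_k0 A B b))

/-- Pulling a global section of the ideal back to the sheaf of differentials. -/
noncomputable abbrev ps (k : Γ(GI A B, ⊤)) : Γ(Omega.sheaf (fS A B), ⊤) :=
  OmegaSh.pullSect (Δ A B) (GI A B) ⊤ k

theorem dSect_eq (s : Γ(Spec (CommRingCat.of B), ⊤)) :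
    OmegaSh.dSect (fS A B) ⊤ s = ps A B (k0 A B s) := by
  unfold ps k0
  rw [show (eqToHom (show ⊤ = OmegaSh.diagNbhd (fS A B) ⊤ from (inf_idem _).symm)) =
    homOfLE (inf_idem (⊤ : (PP A B).Opens)).ge from Subsingleton.elim _ _]
  exact (OmegaSh.pullSect_map (Δ A B) (GI A B) (inf_idem (⊤ : (PP A B).Opens)).ge _).symm

theorem toΓ_surjective : Function.Surjective (OmAff.toΓ B) :=
  (Scheme.ΓSpecIso (CommRingCat.of B)).symm.commRingCatIsoToRingEquiv.surjective

theorem ps_mem_range (k : Γ(GI A B, ⊤)) : ∃ x, OmAff.toSpec A B x = ps A B k := by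
  have hmem := θ_incl_mem A B k
  rw [← KaehlerDifferential.span_range_eq_ideal] at hmem
  suffices ∀ z, z ∈ Ideal.span (Set.range fun s : B => (1 : B) ⊗ₜ[A] s - s ⊗ₜ[A] (1 : B)) →
      ∃ k' : Γ(GI A B, ⊤), θ A B (M2.idealIncl (Δ A B).ker k') = z ∧
        ∃ x, OmAff.toSpec A B x = ps A B k' by
    obtain ⟨k', hk', hx⟩ := this _ hmem
    rwa [M2.idealIncl_injective _ _ (θ_injective A B hk')] at hx
  intro z hz
  induction hz using Submodule.span_induction with
  | mem y hy =>
    obtain ⟨b, rfl⟩ := hy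
    exact ⟨_, θ_incl_k0 A B b, KaehlerDifferential.D A B b,
      (OmAff.toSpec_D A B b).trans (dSect_eq A B _)⟩
  | zero =>
    refine ⟨0, ?_, 0, (map_zero _).trans (map_zero (OmegaSh.pullSect (Δ A B) (GI A B) ⊤).hom).symm⟩
    rw [show M2.idealIncl (Δ A B).ker (0 : Γ(GI A B, ⊤)) = 0 from map_zero _, map_zero]
  | add y y' _ _ hy hy' =>
    obtain ⟨k₁, h₁, x₁, e₁⟩ := hy
    obtain ⟨k₂, h₂, x₂, e₂⟩ := hy'
    exact ⟨k₁ + k₂, by rw [M2.idealIncl_add, map_add, h₁, h₂], x₁ + x₂,
      ((map_add (OmAff.toSpec A B) _ _).trans (congrArg₂ (· + ·) e₁ e₂)).trans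
        (map_add (OmegaSh.pullSect (Δ A B) (GI A B) ⊤).hom _ _).symm⟩
  | smul t y _ hy =>
    obtain ⟨k₁, h₁, x₁, e₁⟩ := hy
    obtain ⟨r, rfl⟩ := θ_surjective A B t
    refine ⟨r • k₁, by rw [M2.idealIncl_smul, map_mul, h₁]; rfl,
      Algebra.TensorProduct.lmul' A (S := B) (θ A B r) • x₁, ?_⟩
    rw [LinearMap.map_smulₛₗ, e₁, ← diag_appTop]
    exact (OmegaSh.pullSect_smul (Δ A B) (GI A B) ⊤ r k₁).symm

theorem isQCoh_omega : Coh.IsQCoh (Omega.sheaf (fS A B)) :=
  M1.isQCoh_pullback _ (M2.isQCoh_idealMod _)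

theorem smul_toΓ {R : CommRingCat.{u}} {M : (Spec R).Modules} (b : R) (m : Γ(M, ⊤)) :
    b • m = (Scheme.ΓSpecIso R).inv b • m := by
  rw [Scheme.Modules.smul_Spec_def]
  congr 1

/-- Global sections of a tilde module. -/
noncomputable def topEquiv (M : ModuleCat.{u} B) :
    M ≃+ Γ(tilde (R := CommRingCat.of B) M, ⊤) :=
  (tilde.isoTop (R := CommRingCat.of B) M).toLinearEquiv.toAddEquiv

theorem topEquiv_smul (M : ModuleCat.{u} B) (b : B) (m : M) :
    topEquiv B M (b • m) = OmAff.toΓ B b • topEquiv B M m :=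
  ((tilde.isoTop (R := CommRingCat.of B) M).toLinearEquiv.map_smul b m).trans
    (smul_toΓ (R := CommRingCat.of B) b _)

theorem topEquiv_symm_smul (M : ModuleCat.{u} B) (b : B) (m : Γ(tilde (R := CommRingCat.of B) M, ⊤)) :
    (topEquiv B M).symm (OmAff.toΓ B b • m) = b • (topEquiv B M).symm m := by
  refine (topEquiv B M).injective ?_
  rw [AddEquiv.apply_symm_apply, topEquiv_smul, AddEquiv.apply_symm_apply]

theorem toSpec_surjective : Function.Surjective (OmAff.toSpec A B) := by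
  let O := Omega.sheaf (fS A B)
  let T : Submodule Γ(Spec (CommRingCat.of B), ⊤) Γ(O, ⊤) :=
    { carrier := Set.range (OmAff.toSpec A B)
      add_mem' := fun ⟨x, hx⟩ ⟨y, hy⟩ => ⟨x + y, by rw [map_add, hx, hy]⟩
      zero_mem' := ⟨0, map_zero _⟩
      smul_mem' := fun c z ⟨x, hx⟩ => by
        obtain ⟨b, rfl⟩ := toΓ_surjective B c
        exact ⟨b • x, by rw [LinearMap.map_smulₛₗ, hx]⟩ }
  let Q := Γ(O, ⊤) ⧸ T
  letI : Module B Q := Module.compHom Q (OmAff.toΓ B)
  let M : ModuleCat.{u} B := ModuleCat.of B Q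
  let H : (Spec (CommRingCat.of B)).Modules := tilde (R := CommRingCat.of B) M
  let l : Γ(O, ⊤) →+ Γ(H, ⊤) := (topEquiv B M).toAddMonoidHom.comp T.mkQ.toAddMonoidHom
  obtain ⟨q, hq⟩ := exists_hom_top (isQCoh_omega A B) (H := H) l fun r g => by
    obtain ⟨b, rfl⟩ := toΓ_surjective B r
    show topEquiv B M (T.mkQ (OmAff.toΓ B b • g)) = OmAff.toΓ B b • topEquiv B M (T.mkQ g)
    rw [T.mkQ.map_smul]
    exact topEquiv_smul B M b (T.mkQ g)
  have hq0 : q = 0 := by
    let adj := Scheme.Modules.pullbackPushforwardAdjunction (Δ A B)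
    refine (adj.homEquiv (GI A B) H).injective ?_
    refine hom_ext_top (M2.isQCoh_idealMod _) _ _ fun k => ?_
    obtain ⟨x, hx⟩ := ps_mem_range A B k
    rw [Adjunction.homEquiv_unit, Adjunction.homEquiv_unit]
    show q.app ⊤ (ps A B k) = (0 : O ⟶ H).app ⊤ (ps A B k)
    rw [hq]
    show topEquiv B M (T.mkQ (ps A B k)) = 0
    rw [show T.mkQ (ps A B k) = 0 from (Submodule.Quotient.mk_eq_zero T).2 ⟨x, hx⟩, map_zero]
  intro z
  have h := hq z
  rw [hq0] at h
  have h' : T.mkQ z = 0 := (topEquiv B M).injective (h.symm.trans (map_zero (topEquiv B M)).symm)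
  exact (Submodule.Quotient.mk_eq_zero T).1 h'

theorem toSpec_injective : Function.Injective (OmAff.toSpec A B) := by
  let M : ModuleCat.{u} B := ModuleCat.of B Ω[B⁄A]
  let H : (Spec (CommRingCat.of B)).Modules := tilde (R := CommRingCat.of B) M
  let l : Γ(GI A B, ⊤) →+ Γ((Scheme.Modules.pushforward (Δ A B)).obj H, ⊤) :=
    AddMonoidHom.mk' (fun k => topEquiv B M (toDiff A B k)) fun k k' => by
      rw [toDiff_add]; exact map_add (topEquiv B M) _ _
  obtain ⟨ψ', hψ'⟩ := exists_hom_top (M2.isQCoh_idealMod _)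
    (H := (Scheme.Modules.pushforward (Δ A B)).obj H) l fun r k => by
      show topEquiv B M (toDiff A B (r • k)) =
        (Δ A B).appTop r • (topEquiv B M (toDiff A B k) : Γ(H, ⊤))
      rw [toDiff_smul, diag_appTop]
      exact topEquiv_smul B M _ (toDiff A B k)
  let adj := Scheme.Modules.pullbackPushforwardAdjunction (Δ A B)
  let ψ : Omega.sheaf (fS A B) ⟶ H := (adj.homEquiv (GI A B) H).symm ψ'
  have hps : ∀ k, ψ.app ⊤ (ps A B k) = topEquiv B M (toDiff A B k) := fun k => by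
    have e : adj.unit.app (GI A B) ≫ (Scheme.Modules.pushforward (Δ A B)).map ψ = ψ' :=
      (adj.homEquiv_unit (f := ψ)).symm.trans ((adj.homEquiv (GI A B) H).apply_symm_apply ψ')
    exact (congr($(e).app ⊤ k)).trans (hψ' k)
  have key : ∀ x, (topEquiv B M).symm (ψ.app ⊤ (OmAff.toSpec A B x)) = x := fun x => by
    have hx : x ∈ Submodule.span B (Set.range (KaehlerDifferential.D A B)) := by
      rw [KaehlerDifferential.span_range_derivation]; trivial
    induction hx using Submodule.span_induction with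
    | mem y hy =>
      obtain ⟨b, rfl⟩ := hy
      rw [OmAff.toSpec_D, dSect_eq, hps, toDiff_k0]
      exact (topEquiv B M).symm_apply_apply _
    | zero => rw [map_zero, map_zero]; exact map_zero (topEquiv B M).symm
    | add y z _ _ hy hz =>
      rw [map_add, map_add]
      exact (map_add (topEquiv B M).symm _ _).trans (congrArg₂ (· + ·) hy hz)
    | smul b y _ hy =>
      rw [LinearMap.map_smulₛₗ, Scheme.Modules.Hom.app_smul, topEquiv_symm_smul]
      exact congrArg (b • ·) hy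
  exact fun x y hxy => (key x).symm.trans ((congrArg _ (congrArg (ψ.app ⊤) hxy)).trans (key y))

theorem bijective_toSpec : Function.Bijective (OmAff.toSpec A B) :=
  ⟨toSpec_injective A B, toSpec_surjective A B⟩

end Groth.Agent.AffHom12
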