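import Groth.Agent.Lib.AffHom12.Open
import Groth.Agent.Lib.AffHom12.OmegaSpec
import Mathlib.AlgebraicGeometry.PullbackCarrier

/-!
# Sections of the sheaf of differentials over affine opens
-/

universe u

open CategoryTheory Limits AlgebraicGeometry Opposite TopologicalSpace
open scoped TensorProduct

set_option backward.isDefEq.respectTransparency false
set_option backward.isDefEq.respectTransparency.types false
set_option linter.style.haveILetI false
set_option linter.unusedSectionVars false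

namespace Groth.Agent.AffHom12

theorem bijective_mres_of_eq {X : Scheme.{u}} (M : X.Modules) {U V : X.Opens} (h : V ≤ U) (e : U = V) :
    Function.Bijective (M1.mres M h) := by
  subst e
  rw [show (M1.mres M h : Γ(M, U) → Γ(M, U)) = id from funext fun x => M1.mres_id M h x]
  exact Function.bijective_id

section Loc

variable {X : Scheme.{u}} {U : X.Opens} (hU : IsAffineOpen U) (M : ModuleCat.{u} Γ(X, U))

/-- A tilde module on an affine open, pushed to the whole scheme. -/
noncomputable def loc : X.Modules := (Scheme.Modules.pushforward hU.fromSpec).obj (tilde M)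

theorem fromSpec_appLE : hU.fromSpec.appLE U ⊤ hU.fromSpec_preimage_self.ge = (Scheme.ΓSpecIso Γ(X, U)).inv := by
  rw [Scheme.Hom.appLE, hU.fromSpec_app_self, Category.assoc, ← Functor.map_comp,
    Subsingleton.elim ((eqToHom hU.fromSpec_preimage_self).op ≫ (homOfLE hU.fromSpec_preimage_self.ge).op) (𝟙 _),
    CategoryTheory.Functor.map_id, Category.comp_id]

theorem bijective_mres_loc {O O' : X.Opens} (hle : O' ≤ O) (h : U ⊓ O = U ⊓ O') :
    Function.Bijective (M1.mres (loc hU M) hle) := by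
  refine bijective_mres_of_eq (tilde M) (hU.fromSpec.preimage_mono hle) (Opens.ext (Set.ext fun z => ?_))
  have hz : hU.fromSpec z ∈ U := by
    have := hU.range_fromSpec.le ⟨z, rfl⟩
    exact this
  constructor
  · intro hzO
    exact ((h.le (show hU.fromSpec z ∈ U ⊓ O from ⟨hz, hzO⟩))).2
  · intro hzO
    exact hle hzO

/-- Sections over the affine open. -/
noncomputable def locEquiv : M ≃+ Γ(loc hU M, U) :=
  (tilde.isoTop M).toLinearEquiv.toAddEquiv.trans
    (AddEquiv.ofBijective (M1.mres (tilde M) (le_top : hU.fromSpec ⁻¹ᵁ U ≤ ⊤)).hom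
      (bijective_mres_of_eq (tilde M) le_top hU.fromSpec_preimage_self.symm))

theorem locEquiv_smul (b : Γ(X, U)) (m : M) : locEquiv hU M (b • m) = b • locEquiv hU M m := by
  let t : M ≃+ Γ(tilde M, ⊤) := (tilde.isoTop M).toLinearEquiv.toAddEquiv
  have h1 : t (b • m) = (Scheme.ΓSpecIso Γ(X, U)).inv b • t m :=
    ((tilde.isoTop M).toLinearEquiv.map_smul b m).trans (smul_toΓ b _)
  show M1.mres (tilde M) (le_top : hU.fromSpec ⁻¹ᵁ U ≤ ⊤) (t (b • m)) =
    hU.fromSpec.app U b • M1.mres (tilde M) (le_top : hU.fromSpec ⁻¹ᵁ U ≤ ⊤) (t m)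
  rw [h1, Scheme.Modules.map_smul]
  congr 1
  rw [← fromSpec_appLE hU, ← CategoryTheory.comp_apply, Scheme.Hom.appLE_map, Scheme.Hom.app_eq_appLE]

end Loc

variable {X Y : Scheme.{u}} (f : X ⟶ Y) [QuasiSeparated f] {U : X.Opens} {V : Y.Opens}
  (hU : IsAffineOpen U) (hV : IsAffineOpen V) (h : U ≤ f ⁻¹ᵁ V)

/-- The neighbourhood of the diagonal over `U`. -/
noncomputable abbrev WW (U : X.Opens) : (pullback f f).Opens := OmegaSh.diagNbhd f U

omit [QuasiSeparated f] in
theorem diag_preimage_WW : pullback.diagonal f ⁻¹ᵁ WW f U = U :=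
  le_antisymm (OmegaSh.diagonal_preimage_le f le_rfl) (OmegaSh.le_preimage_diagNbhd f U)

/-- The pullback of a section of the ideal of the diagonal. -/
noncomputable abbrev psU (k : Γ(ClSub.idealMod (pullback.diagonal f).ker, WW f U)) : Γ(Omega.sheaf f, U) :=
  M1.mres (Omega.sheaf f) (OmegaSh.le_preimage_diagNbhd f U)
    (OmegaSh.pullSect (pullback.diagonal f) (ClSub.idealMod (pullback.diagonal f).ker) (WW f U) k)

theorem psU_smul (r : Γ(pullback f f, WW f U))
    (k : Γ(ClSub.idealMod (pullback.diagonal f).ker, WW f U)) :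
    psU f (r • k) = (pullback.diagonal f).appLE (WW f U) U (OmegaSh.le_preimage_diagNbhd f U) r • psU f k := by
  show M1.mres _ _ (OmegaSh.pullSect _ _ _ (r • k)) = _
  rw [OmegaSh.pullSect_smul]
  exact Scheme.Modules.map_smul _ _ _ _

variable [Algebra Γ(Y, V) Γ(X, U)] (halg : algebraMap Γ(Y, V) Γ(X, U) = (f.appLE V U h).hom)

include hU hV halg h in
omit [QuasiSeparated f] in
theorem exists_chart : ∃ (e : Spec (CommRingCat.of (Γ(X, U) ⊗[Γ(Y, V)] Γ(X, U))) ⟶ pullback f f) (_ : IsOpenImmersion e),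
    e.opensRange = WW f U ∧
    e ≫ pullback.fst f f = Spec.map (CommRingCat.ofHom
      (Algebra.TensorProduct.includeLeftRingHom (R := Γ(Y, V)) (A := Γ(X, U)) (B := Γ(X, U)))) ≫ hU.fromSpec ∧
    e ≫ pullback.snd f f = Spec.map (CommRingCat.ofHom
      (Algebra.TensorProduct.includeRight (R := Γ(Y, V)) (A := Γ(X, U)) (B := Γ(X, U))).toRingHom) ≫
      hU.fromSpec := by
  let g := Spec.map (CommRingCat.ofHom (algebraMap Γ(Y, V) Γ(X, U)))
  have hsq : g ≫ hV.fromSpec = hU.fromSpec ≫ f := by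
    have : CommRingCat.ofHom (algebraMap Γ(Y, V) Γ(X, U)) = f.appLE V U h := by
      rw [halg]; rfl
    show Spec.map _ ≫ _ = _
    rw [this]
    exact IsAffineOpen.SpecMap_appLE_fromSpec f hV hU h
  let m := pullback.map g g f f hU.fromSpec hU.fromSpec hV.fromSpec hsq hsq
  let e := (pullbackSpecIso Γ(Y, V) Γ(X, U) Γ(X, U)).inv ≫ m
  have hrange : e.opensRange = WW f U := by
    apply Opens.ext
    show Set.range ((pullbackSpecIso Γ(Y, V) Γ(X, U) Γ(X, U)).inv ≫ m) = _
    have hs : Function.Surjective ⇑(pullbackSpecIso Γ(Y, V) Γ(X, U) Γ(X, U)).inv :=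
      (pullbackSpecIso Γ(Y, V) Γ(X, U) Γ(X, U)).inv.homeomorph.surjective
    rw [Scheme.Hom.comp_base, TopCat.coe_comp, Set.range_comp, Set.range_eq_univ.2 hs, Set.image_univ,
      Scheme.Pullback.range_map]
    erw [hU.range_fromSpec]
    rfl
  refine ⟨e, inferInstance, hrange, ?_, ?_⟩
  · rw [Category.assoc, pullback.lift_fst, pullbackSpecIso_inv_fst_assoc]
  · rw [Category.assoc, pullback.lift_snd, pullbackSpecIso_inv_snd_assoc]
    rfl

include hU hV halg h in
omit [QuasiSeparated f] in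
theorem isAffineOpen_WW : IsAffineOpen (WW f U) := by
  obtain ⟨e, he, hr, -, -⟩ := exists_chart f hU hV h halg
  rw [← hr]
  exact isAffineOpen_opensRange e

/-- The ring of functions near the diagonal. -/
structure Chart where
  θ : Γ(pullback f f, WW f U) →+* (Γ(X, U) ⊗[Γ(Y, V)] Γ(X, U))
  bij : Function.Bijective θ
  fst : ∀ s, θ ((pullback.fst f f).appLE U (WW f U) inf_le_left s) = s ⊗ₜ 1
  snd : ∀ s, θ ((pullback.snd f f).appLE U (WW f U) inf_le_right s) = 1 ⊗ₜ s
  diag : ∀ r, (pullback.diagonal f).appLE (WW f U) U (OmegaSh.le_preimage_diagNbhd f U) r =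
    Algebra.TensorProduct.lmul' Γ(Y, V) (θ r)

include hU hV halg h in
omit [QuasiSeparated f] in
theorem nonempty_chart : Nonempty (Chart f (U := U) (V := V)) := by
  obtain ⟨e, he, hr, hfst, hsnd⟩ := exists_chart f hU hV h halg
  have hpre : e ⁻¹ᵁ WW f U = ⊤ := by rw [← hr]; exact Scheme.Hom.preimage_opensRange e
  let R : CommRingCat := CommRingCat.of (Γ(X, U) ⊗[Γ(Y, V)] Γ(X, U))
  let θ0 : Γ(pullback f f, WW f U) ⟶ R := e.appLE (WW f U) ⊤ hpre.ge ≫ (Scheme.ΓSpecIso R).hom
  have : IsIso (e.app (WW f U)) := e.isIso_app _ hr.ge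
  have : IsIso (e.appLE (WW f U) ⊤ hpre.ge) := by
    rw [Scheme.Hom.appLE, show homOfLE hpre.ge = eqToHom hpre.symm from Subsingleton.elim _ _]
    infer_instance
  have hbij : Function.Bijective θ0 := (ConcreteCategory.isIso_iff_bijective θ0).1 inferInstance
  have hcoord : ∀ (p : pullback f f ⟶ X) (i : Γ(X, U) ⟶ R), e ≫ p = Spec.map i ≫ hU.fromSpec →
      ∀ (hp : WW f U ≤ p ⁻¹ᵁ U) s, θ0 (p.appLE U (WW f U) hp s) = i s := by
    intro p i hi hp s
    have key : p.appLE U (WW f U) hp ≫ θ0 = i := by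
      rw [← Category.assoc, Scheme.Hom.appLE_comp_appLE,
        OmegaSh.appLE_congr_hom hi _ (by rw [Scheme.Hom.comp_preimage, hU.fromSpec_preimage_self]; rfl),
        ← Scheme.Hom.appLE_comp_appLE _ _ U ⊤ ⊤ hU.fromSpec_preimage_self.ge le_rfl, fromSpec_appLE,
        Category.assoc]
      have : (Spec.map i).appLE ⊤ ⊤ le_rfl = (Spec.map i).appTop := (Scheme.Hom.app_eq_appLE _).symm
      rw [this, Scheme.ΓSpecIso_naturality, Iso.inv_hom_id_assoc]
    exact congr($key s)
  refine ⟨{ θ := θ0.hom, bij := hbij, fst := fun s => hcoord _ _ hfst inf_le_left s,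
            snd := fun s => hcoord _ _ hsnd inf_le_right s, diag := fun r => ?_ }⟩
  let m : R ⟶ Γ(X, U) := CommRingCat.ofHom (Algebra.TensorProduct.lmul' Γ(Y, V) : (Γ(X, U) ⊗[Γ(Y, V)] Γ(X, U)) →ₐ[Γ(Y, V)] Γ(X, U)).toRingHom
  have hm : hU.fromSpec ≫ pullback.diagonal f = Spec.map m ≫ e := by
    have h1 : CommRingCat.ofHom (Algebra.TensorProduct.includeLeftRingHom (R := Γ(Y, V)) (A := Γ(X, U))
        (B := Γ(X, U))) ≫ m = 𝟙 _ := by
      ext s; simp [m]
    have h2 : CommRingCat.ofHom (Algebra.TensorProduct.includeRight (R := Γ(Y, V)) (A := Γ(X, U))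
        (B := Γ(X, U))).toRingHom ≫ m = 𝟙 _ := by
      ext s; simp [m]
    apply pullback.hom_ext
    · rw [Category.assoc, pullback.diagonal_fst, Category.comp_id, Category.assoc, hfst, ← Spec.map_comp_assoc,
        h1, Spec.map_id]
      exact (Category.id_comp _).symm
    · rw [Category.assoc, pullback.diagonal_snd, Category.comp_id, Category.assoc, hsnd, ← Spec.map_comp_assoc,
        h2, Spec.map_id]
      exact (Category.id_comp _).symm
  have key : (pullback.diagonal f).appLE (WW f U) U (OmegaSh.le_preimage_diagNbhd f U) ≫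
      (Scheme.ΓSpecIso Γ(X, U)).inv = θ0 ≫ m ≫ (Scheme.ΓSpecIso Γ(X, U)).inv := by
    rw [← fromSpec_appLE hU, Scheme.Hom.appLE_comp_appLE,
      OmegaSh.appLE_congr_hom hm _ (by rw [Scheme.Hom.comp_preimage, hpre]; rfl),
      ← Scheme.Hom.appLE_comp_appLE _ _ (WW f U) ⊤ ⊤ hpre.ge le_rfl, fromSpec_appLE]
    have : (Spec.map m).appLE ⊤ ⊤ le_rfl = (Spec.map m).appTop := (Scheme.Hom.app_eq_appLE _).symm
    rw [this, Category.assoc, Scheme.ΓSpecIso_inv_naturality, Iso.hom_inv_id_assoc]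
  have key' : (pullback.diagonal f).appLE (WW f U) U (OmegaSh.le_preimage_diagNbhd f U) = θ0 ≫ m :=
    (cancel_mono (Scheme.ΓSpecIso Γ(X, U)).inv).1 (key.trans (Category.assoc _ _ _).symm)
  exact congr($key' r)

variable (c : Chart f (U := U) (V := V))

/-- The ideal module of the diagonal. -/
noncomputable abbrev GD : (pullback f f).Modules := ClSub.idealMod (pullback.diagonal f).ker

variable (hWa : IsAffineOpen (WW f U))

include hWa in
theorem chart_incl_mem (k : Γ(GD f, WW f U)) :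
    c.θ (M2.idealIncl _ k) ∈ KaehlerDifferential.ideal Γ(Y, V) Γ(X, U) := by
  have h : M2.idealIncl (pullback.diagonal f).ker k ∈ (pullback.diagonal f).ker.ideal ⟨WW f U, hWa⟩ :=
    (M2.range_idealIncl (pullback.diagonal f).ker ⟨WW f U, hWa⟩).le ⟨k, rfl⟩
  rw [Scheme.Hom.ker_apply, RingHom.mem_ker] at h
  refine RingHom.mem_ker.2 ((c.diag _).symm.trans ?_)
  rw [Scheme.Hom.appLE, CategoryTheory.comp_apply]
  exact (congrArg _ h).trans (map_zero _)

/-- The differential attached to a section of the ideal. -/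
noncomputable def chartDiff : Γ(GD f, WW f U) →+ Ω[Γ(X, U)⁄Γ(Y, V)] :=
  AddMonoidHom.mk' (fun k => KaehlerDifferential.fromIdeal Γ(Y, V) Γ(X, U) ⟨_, chart_incl_mem f c hWa k⟩)
    fun k k' => by
      rw [← map_add]
      congr 1
      ext
      show c.θ (M2.idealIncl _ (k + k')) = c.θ _ + c.θ _
      rw [M2.idealIncl_add, map_add]

theorem chartDiff_smul (r : Γ(pullback f f, WW f U)) (k : Γ(GD f, WW f U)) :
    chartDiff f c hWa (r • k) = (pullback.diagonal f).appLE (WW f U) U (OmegaSh.le_preimage_diagNbhd f U) r •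
      chartDiff f c hWa k := by
  rw [c.diag, Omega12.lmul_smul_kaehler]
  show KaehlerDifferential.fromIdeal Γ(Y, V) Γ(X, U) _ = c.θ r • KaehlerDifferential.fromIdeal Γ(Y, V) Γ(X, U) _
  rw [← map_smul]
  congr 1
  ext
  show c.θ (M2.idealIncl _ (r • k)) = c.θ r * c.θ _
  rw [M2.idealIncl_smul, map_mul]

theorem chart_incl_idealLift (s : Γ(X, U)) :
    c.θ (M2.idealIncl _ (OmegaSh.idealLift f U s)) = 1 ⊗ₜ s - s ⊗ₜ 1 := by
  rw [show M2.idealIncl _ (OmegaSh.idealLift f U s) = OmegaSh.diagDiff f U s from OmegaSh.ι_idealLift f U s,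
    OmegaSh.diagDiff, map_sub, c.fst, c.snd]

theorem chartDiff_idealLift (s : Γ(X, U)) :
    chartDiff f c hWa (OmegaSh.idealLift f U s) = KaehlerDifferential.D Γ(Y, V) Γ(X, U) s := by
  rw [KaehlerDifferential.D_apply]
  exact congrArg (KaehlerDifferential.fromIdeal Γ(Y, V) Γ(X, U)) (Subtype.ext (chart_incl_idealLift f c s))

variable (L : Ω[Γ(X, U)⁄Γ(Y, V)] →ₗ[Γ(X, U)] Γ(Omega.sheaf f, U))
  (hL : ∀ b, L (KaehlerDifferential.D Γ(Y, V) Γ(X, U) b) = OmegaSh.dSect f U b)

include c hWa hL in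
theorem psU_mem_range (k : Γ(GD f, WW f U)) : ∃ x, L x = psU f k := by
  have hmem := chart_incl_mem f c hWa k
  rw [← KaehlerDifferential.span_range_eq_ideal] at hmem
  suffices ∀ z, z ∈ Ideal.span (Set.range fun s : Γ(X, U) => (1 : Γ(X, U)) ⊗ₜ[Γ(Y, V)] s - s ⊗ₜ[Γ(Y, V)] (1 : Γ(X, U))) →
      ∃ k' : Γ(GD f, WW f U), c.θ (M2.idealIncl _ k') = z ∧ ∃ x, L x = psU f k' by
    obtain ⟨k', hk', hx⟩ := this _ hmem
    rwa [M2.idealIncl_injective _ _ (c.bij.1 hk')] at hx
  intro z hz
  induction hz using Submodule.span_induction with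
  | mem y hy =>
    obtain ⟨b, rfl⟩ := hy
    exact ⟨_, chart_incl_idealLift f c b, KaehlerDifferential.D Γ(Y, V) Γ(X, U) b, hL b⟩
  | zero =>
    refine ⟨0, ?_, 0, ?_⟩
    · rw [show M2.idealIncl _ (0 : Γ(GD f, WW f U)) = 0 from map_zero _, map_zero]
    · simp only [psU, map_zero]
  | add y y' _ _ hy hy' =>
    obtain ⟨k₁, h₁, x₁, e₁⟩ := hy
    obtain ⟨k₂, h₂, x₂, e₂⟩ := hy'
    refine ⟨k₁ + k₂, by rw [M2.idealIncl_add, map_add, h₁, h₂], x₁ + x₂, ?_⟩
    rw [map_add, e₁, e₂]
    simp only [psU, map_add]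
  | smul t y _ hy =>
    obtain ⟨k₁, h₁, x₁, e₁⟩ := hy
    obtain ⟨r, rfl⟩ := c.bij.2 t
    exact ⟨r • k₁, by rw [M2.idealIncl_smul, map_mul, h₁]; rfl,
      (pullback.diagonal f).appLE (WW f U) U (OmegaSh.le_preimage_diagNbhd f U) r • x₁,
      by rw [map_smul, e₁, psU_smul]⟩

theorem isIso_unit_push_loc (M : ModuleCat.{u} Γ(X, U)) :
    IsIso ((Scheme.Modules.restrictAdjunction (WW f U).ι).unit.app
      ((Scheme.Modules.pushforward (pullback.diagonal f)).obj (loc hU M))) :=
  isIso_unit_of_bijective _ fun O O' hle hO => by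
    refine bijective_mres_loc hU M ((pullback.diagonal f).preimage_mono hle) ?_
    have := congrArg (fun Z => pullback.diagonal f ⁻¹ᵁ Z) hO
    refine Eq.trans ?_ (Eq.trans this ?_)
    · exact congrArg (fun Z => Z ⊓ pullback.diagonal f ⁻¹ᵁ O) (diag_preimage_WW f).symm
    · exact congrArg (fun Z => Z ⊓ pullback.diagonal f ⁻¹ᵁ O') (diag_preimage_WW f)

include c hWa hL hU in
theorem surjective_L : Function.Surjective L := by
  let O := Omega.sheaf f
  let T := LinearMap.range L
  let M : ModuleCat.{u} Γ(X, U) := ModuleCat.of Γ(X, U) (Γ(O, U) ⧸ T)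
  haveI : IsIso ((Scheme.Modules.restrictAdjunction U.ι).unit.app (loc hU M)) :=
    isIso_unit_of_bijective _ fun O O' hle hO => bijective_mres_loc hU M hle hO
  haveI := isIso_unit_push_loc f hU M
  obtain ⟨q, hq⟩ := exists_hom_on hU (M1.isQCoh_pullback _ (M2.isQCoh_idealMod _) : Coh.IsQCoh O) (K := loc hU M)
    ((locEquiv hU M).toAddMonoidHom.comp T.mkQ.toAddMonoidHom) fun r g => by
      show locEquiv hU M (T.mkQ (r • g)) = r • locEquiv hU M (T.mkQ g)
      rw [T.mkQ.map_smul]
      exact locEquiv_smul hU M r (T.mkQ g)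
  have hq0 : q = 0 := by
    let adj := Scheme.Modules.pullbackPushforwardAdjunction (pullback.diagonal f)
    refine (adj.homEquiv (GD f) (loc hU M)).injective ?_
    refine hom_ext_on hWa (M2.isQCoh_idealMod _) _ _ fun k => ?_
    rw [Adjunction.homEquiv_unit, Adjunction.homEquiv_unit]
    refine (bijective_mres_loc hU M (OmegaSh.le_preimage_diagNbhd f U) (by rw [diag_preimage_WW])).1 ?_
    show M1.mres (loc hU M) _ (q.app (pullback.diagonal f ⁻¹ᵁ WW f U)
        (OmegaSh.pullSect (pullback.diagonal f) (GD f) (WW f U) k)) =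
      M1.mres (loc hU M) _ ((0 : O ⟶ loc hU M).app (pullback.diagonal f ⁻¹ᵁ WW f U)
        (OmegaSh.pullSect (pullback.diagonal f) (GD f) (WW f U) k))
    rw [← M1.app_mres, ← M1.app_mres]
    obtain ⟨x, hx⟩ := psU_mem_range f c hWa L hL k
    refine (hq _).trans ?_
    show locEquiv hU M (T.mkQ (psU f k)) = 0
    rw [show T.mkQ (psU f k) = 0 from (Submodule.Quotient.mk_eq_zero T).2 ⟨x, hx⟩, map_zero]
  intro z
  have h := hq z
  rw [hq0] at h
  have h' : T.mkQ z = 0 := (locEquiv hU M).injective (h.symm.trans (map_zero (locEquiv hU M)).symm)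
  exact (Submodule.Quotient.mk_eq_zero T).1 h'

include c hWa hL hU in
theorem injective_L : Function.Injective L := by
  let M : ModuleCat.{u} Γ(X, U) := ModuleCat.of Γ(X, U) Ω[Γ(X, U)⁄Γ(Y, V)]
  let H := loc hU M
  haveI := isIso_unit_push_loc f hU M
  have hle : pullback.diagonal f ⁻¹ᵁ WW f U ≤ U := (diag_preimage_WW f).le
  obtain ⟨ψ', hψ'⟩ := exists_hom_on hWa (M2.isQCoh_idealMod (pullback.diagonal f).ker)
    (K := (Scheme.Modules.pushforward (pullback.diagonal f)).obj H)
    ((M1.mres H hle).hom.comp ((locEquiv hU M).toAddMonoidHom.comp (chartDiff f c hWa))) fun r k => by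
      show M1.mres H hle (locEquiv hU M (chartDiff f c hWa (r • k))) =
        (pullback.diagonal f).app (WW f U) r • M1.mres H hle (locEquiv hU M (chartDiff f c hWa k))
      rw [chartDiff_smul]
      erw [locEquiv_smul hU M]
      rw [Scheme.Modules.map_smul]
      congr 1
      rw [← CategoryTheory.comp_apply, Scheme.Hom.appLE_map, Scheme.Hom.app_eq_appLE]
  let adj := Scheme.Modules.pullbackPushforwardAdjunction (pullback.diagonal f)
  let ψ : Omega.sheaf f ⟶ H := (adj.homEquiv (GD f) H).symm ψ'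
  have hps : ∀ k, ψ.app U (psU f k) = locEquiv hU M (chartDiff f c hWa k) := fun k => by
    have e : adj.unit.app (GD f) ≫ (Scheme.Modules.pushforward (pullback.diagonal f)).map ψ = ψ' :=
      (adj.homEquiv_unit (f := ψ)).symm.trans ((adj.homEquiv (GD f) H).apply_symm_apply ψ')
    have e2 : ψ.app _ (OmegaSh.pullSect (pullback.diagonal f) (GD f) (WW f U) k) =
        M1.mres H hle (locEquiv hU M (chartDiff f c hWa k)) := (congr($(e).app (WW f U) k)).trans (hψ' k)
    show ψ.app U (M1.mres _ _ _) = _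
    rw [M1.app_mres]
    refine (congrArg _ e2).trans ?_
    rw [M1.mres_mres, M1.mres_id]
  have key : ∀ x, (locEquiv hU M).symm (ψ.app U (L x)) = x := fun x => by
    have hx : x ∈ Submodule.span Γ(X, U) (Set.range (KaehlerDifferential.D Γ(Y, V) Γ(X, U))) := by
      rw [KaehlerDifferential.span_range_derivation]; trivial
    induction hx using Submodule.span_induction with
    | mem y hy =>
      obtain ⟨b, rfl⟩ := hy
      rw [hL]
      refine (congrArg _ ((hps (OmegaSh.idealLift f U b)).trans (congrArg _ (chartDiff_idealLift f c hWa b)))).trans ?_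
      exact (locEquiv hU M).symm_apply_apply _
    | zero => rw [map_zero, map_zero]; exact map_zero (locEquiv hU M).symm
    | add y z _ _ hy hz =>
      rw [map_add, map_add]
      exact (map_add (locEquiv hU M).symm _ _).trans (congrArg₂ (· + ·) hy hz)
    | smul b y _ hy =>
      rw [map_smul, Scheme.Modules.Hom.app_smul]
      refine (locEquiv hU M).injective ?_
      rw [AddEquiv.apply_symm_apply, show b • y = (b • y : M) from rfl]
      erw [locEquiv_smul hU M]
      congr 1
      exact (AddEquiv.eq_symm_apply _).1 hy.symm |>.symm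
  exact fun x y hxy => (key x).symm.trans ((congrArg _ (congrArg (ψ.app U) hxy)).trans (key y))

end Groth.Agent.AffHom12
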